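import Groth.Agent.Lib.ProEtCoprod19.Sections

/-! Sheaves which are Čech acyclic on quasi-compact quasi-separated objects. -/

universe u

open CategoryTheory Limits AlgebraicGeometry Opposite Abelian

namespace Groth.Agent.ProEtCoprod19

open ProEtWC ProEtEps19

set_option backward.isDefEq.respectTransparency false
set_option backward.isDefEq.respectTransparency.types false
set_option linter.style.haveILetI false
set_option linter.unusedSectionVars false
set_option maxHeartbeats 800000

attribute [local instance] ProEtWC.epsCont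

variable {X : Scheme.{u}}

/-- Quasi-compact quasi-separated objects. -/
def QS (Y : X.ProEt) : Prop := CompactSpace Y.left ∧ QuasiSeparatedSpace Y.left

theorem qs_powS {W Y : X.ProEt} (g : W ⟶ Y) (hW : QS W) (hY : QS Y) : ∀ n, QS (powS g n).R
  | 0 => hW
  | n + 1 => by
    obtain ⟨hc, hs⟩ := qs_powS g hW hY n
    haveI := hc
    haveI := hs
    haveI := hW.1
    haveI := hW.2
    haveI := hY.1
    haveI := hY.2
    haveI : QuasiCompact g.left := quasiCompact_of_compactSpace _
    haveI : QuasiSeparated g.left := QuasiSeparated.of_quasiSeparatedSpace _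
    let p : pullback (powS g n).toBase.left g.left ⟶ (powS g n).R.left := pullback.fst _ _
    exact ⟨QuasiCompact.compactSpace_of_compactSpace p,
      show QuasiSeparatedSpace ↥(pullback (powS g n).toBase.left g.left) from
        quasiSeparatedSpace_of_quasiSeparated p⟩

theorem qs_of_isAffine (Y : X.ProEt) [IsAffine Y.left] : QS Y :=
  ⟨inferInstance, inferInstance⟩

/-- Čech acyclic on quasi-compact quasi-separated objects. -/
def CAc (G : ProEtS.AbP X) : Prop :=
  ∀ {W Y : X.ProEt} (g : W ⟶ Y), QS W → QS Y →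
    Sieve.generate (Presieve.singleton g) ∈ Scheme.ProEt.topology X Y → CechExact g G.obj

theorem cac_injective (J : ProEtS.AbP X) [Injective J] : CAc J := fun g _ _ _ => by
  haveI : Injective J.obj := Injective.injective_of_adjoint (sheafificationAdjunction _ _) J
  exact cechExact_injective.{u + 1} (g := g) (I := J.obj)

theorem surjective_qs {S : ShortComplex (ProEtS.AbP X)} (hS : S.ShortExact) (hG : CAc S.X₁) {Y : X.ProEt}
    (hY : QS Y) : Function.Surjective (S.g.hom.app (op Y)) := by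
  intro x
  haveI := hY.1
  obtain ⟨W, g, hv, hVa, hwc⟩ := exists_affine_wc_cover_singleton Y
  haveI := hVa
  haveI := hS.epi_g
  obtain ⟨e, he⟩ := wc_surjective hwc S.g (S.X₃.obj.map g.op x)
  let p := fun n => (powS g n).toPow
  let c : Cochain g S.X₂.obj 0 :=
    { val := fun T t => S.X₂.obj.map (t.1 0).op e
      nat := fun h t => by rw [← Functor.map_comp_apply, ← op_comp]; rfl }
  have hgc : ∀ T t, S.g.hom.app (op T) (c.val T t) = S.X₃.obj.map (t.1 0 ≫ g).op x := fun T t => by
    show S.g.hom.app (op T) (S.X₂.obj.map (t.1 0).op e) = _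
    rw [NatTrans.naturality_apply S.g.hom, he, ← Functor.map_comp_apply, ← op_comp]
  have hd := cochain_d_zero c
  have hgd : S.g.hom.app _ (c.d.val _ (p 1).u) = 0 := by
    rw [hd, map_sub, hgc, hgc, sub_eq_zero]
    exact congrArg (fun q => S.X₃.obj.map (Quiver.Hom.op q) x) (((p 1).u.2 _).trans ((p 1).u.2 _).symm)
  obtain ⟨a₀, ha₀⟩ := (ses_app hS _).2 _ hgd
  let a := (p 1).cochain (P := S.X₁.obj) a₀
  have ha : ∀ T t, S.f.hom.app (op T) (a.val T t) = c.d.val T t := fun T t => by
    rw [(p 1).eq_cochain c.d T t, ← ha₀]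
    exact NatTrans.naturality_apply S.f.hom ((p 1).lift t).op a₀
  have hda : ∀ T t, a.d.val T t = 0 := fun T t => (ses_app hS (op T)).1 (by
    rw [map_zero, ← Cochain.push_d, show a.push S.f.hom = c.d from Cochain.ext ha]
    exact Cochain.d_d c T t)
  obtain ⟨b, hb⟩ := hG g (qs_of_isAffine W) hY hv 0 a hda
  let c' := c.sub (b.push S.f.hom)
  have hc' : ∀ T t, c'.d.val T t = 0 := fun T t => by
    rw [Cochain.sub_d, Cochain.push_d, hb, ha, sub_self]
  let w : S.X₂.obj.obj (op W) := c'.val W (powZero g).u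
  have hw : ∀ Z (q₁ q₂ : Z ⟶ W), q₁ ≫ g = q₂ ≫ g → S.X₂.obj.map q₁.op w = S.X₂.obj.map q₂.op w := by
    intro Z q₁ q₂ hq
    let t : Tup g 1 Z := ⟨![q₁, q₂], fun k => by
      fin_cases k
      · rfl
      · exact hq.symm⟩
    have h0 : (t.face 0) = Tup.comp q₂ (powZero g).u :=
      Subtype.ext (funext fun k => by
        have hk : k = 0 := Fin.fin_one_eq_zero k
        subst hk
        exact (Category.comp_id q₂).symm)
    have h1 : (t.face 1) = Tup.comp q₁ (powZero g).u :=
      Subtype.ext (funext fun k => by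
        have hk : k = 0 := Fin.fin_one_eq_zero k
        subst hk
        exact (Category.comp_id q₁).symm)
    have h := hc' Z t
    erw [cochain_d_zero c' Z t] at h
    rw [h0, h1, sub_eq_zero, ← c'.nat, ← c'.nat] at h
    exact h.symm
  have hcov : Sieve.generate (Presieve.ofArrows (fun _ : PUnit.{1} => W) fun _ => g) ∈
      Scheme.ProEt.topology X Y := by
    rw [Presieve.ofArrows_pUnit]
    exact hv
  have hsh := ((isSheaf_iff_isSheaf_of_type _ _).1
    ((Presheaf.isSheaf_iff_isSheaf_forget _ S.X₂.obj (forget AddCommGrpCat.{u + 1})).1 S.X₂.property)) _ hcov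
  rw [← Presieve.isSheafFor_iff_generate] at hsh
  obtain ⟨y, hy, -⟩ := (Presieve.isSheafFor_arrows_iff _ _).1 hsh (fun _ => w)
    fun _ _ Z q₁ q₂ hq => hw Z q₁ q₂ hq
  refine ⟨y, eq_of_cover hcov S.X₃ _ _ fun Z q hq => ?_⟩
  obtain ⟨Z', q', g', hg', rfl⟩ := hq
  obtain ⟨i⟩ := hg'
  rw [op_comp, Functor.map_comp_apply, Functor.map_comp_apply]
  refine congrArg (S.X₃.obj.map q'.op) ?_
  rw [← NatTrans.naturality_apply S.g.hom]
  rw [show S.X₂.obj.map g.op y = w from hy i]
  show S.g.hom.app _ (c.val W (powZero g).u - S.f.hom.app _ (b.val W (powZero g).u)) = _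
  have h0 : S.g.hom.app (op W) (S.f.hom.app (op W) (b.val W (powZero g).u)) = 0 := by
    rw [← ConcreteCategory.comp_apply, ← NatTrans.comp_app,
      show S.f.hom ≫ S.g.hom = 0 from congrArg (fun e => e.hom) S.zero]
    rfl
  rw [map_sub, h0, sub_zero, hgc]
  exact congrArg (fun q => S.X₃.obj.map (Quiver.Hom.op q) x) (Category.id_comp g)

theorem cac_quotient {S : ShortComplex (ProEtS.AbP X)} (hS : S.ShortExact) (hG : CAc S.X₁) [Injective S.X₂] :
    CAc S.X₃ := fun {W Y} g hW hY hv => by
  haveI : Injective S.X₂.obj := Injective.injective_of_adjoint (sheafificationAdjunction _ _) S.X₂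
  exact cechExact_quotient S.f.hom S.g.hom
    (congrArg (fun e => e.hom) S.zero) (fun n => (powS g n).toPow)
    (fun n => (ses_app hS _).1) (fun n y hy => (ses_app hS _).2 y hy)
    (fun n => surjective_qs hS hG (qs_powS g hW hY n)) (hG g hW hY hv)
    (cechExact_injective.{u + 1} (g := g) (I := S.X₂.obj))

variable {ι : Type u} (G : ι → ProEtS.AbP X)

/-- Coproducts of acyclic sheaves are acyclic. -/
theorem cac_coprod (hG : ∀ i, CAc (G i)) : CAc (∐ G) := by
  intro W Y g hW hY hv n c hc
  let p := (powS g (n + 1)).toPow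
  haveI : CompactSpace p.R.left := (qs_powS g hW hY (n + 1)).1
  obtain ⟨s, hs⟩ := exists_part G (c.val p.R p.u)
  choose b hb using fun i => hG i g hW hY hv n (c.push (pr G i).hom) (fun T x => by
    rw [Cochain.push_d, hc, map_zero])
  let b' : Cochain g (∐ G).obj n :=
    { val := fun T x => ∑ i ∈ s, (Sigma.ι G i).hom.app (op T) ((b i).val T x)
      nat := fun {T T'} h x => by
        rw [map_sum]
        exact Finset.sum_congr rfl fun i _ => ((b i).push (Sigma.ι G i).hom).nat h x }
  have key : ∀ T x, b'.d.val T x = part G s (c.val T x) := fun T x => by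
    simp only [Cochain.d, b', part, Finset.smul_sum]
    rw [Finset.sum_comm]
    refine Finset.sum_congr rfl fun i _ => ?_
    exact (Cochain.push_d (Sigma.ι G i).hom (b i) T x).trans (congrArg _ (hb i T x))
  refine ⟨b', fun T x => ?_⟩
  rw [key, p.eq_cochain c T x, part_map, hs s subset_rfl]

variable [CompactSpace X] [QuasiSeparatedSpace X]

theorem qs_top : QS (ProEtS.topP X) := ⟨‹CompactSpace X›, ‹QuasiSeparatedSpace X›⟩

theorem subsingleton_H : ∀ (n : ℕ) (G : ProEtS.AbP X), CAc G → Subsingleton (Sheaf.H G (n + 1)) := by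
  intro n
  induction n with
  | zero =>
    intro G hG
    obtain ⟨S, hS, rfl, _⟩ := exists_embedding G
    refine subsingleton_of_forall_eq 0 fun x => ?_
    obtain ⟨x₃, rfl⟩ := Ext.covariant_sequence_exact₁ _ hS x (Ext.eq_zero_of_injective _) (n₀ := 0) rfl
    let hT : IsTerminal (ProEtS.topP X) := MorphismProperty.Over.mkIdTerminal _ X
    obtain ⟨y, hy⟩ := surjective_qs hS hG qs_top (Sheaf.H.equiv₀ S.X₃ hT x₃)
    have hl : x₃ = Sheaf.H.map S.g 0 ((Sheaf.H.equiv₀ S.X₂ hT).symm y) := by
      rw [Sheaf.H.equiv₀_symm_naturality, hy, AddEquiv.symm_apply_apply]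
    rw [hl, Sheaf.H.map_apply, Ext.comp_assoc (a₁₂ := 0) (a₂₃ := 1) _ _ _ rfl rfl rfl,
      hS.comp_extClass, Ext.comp_zero]
  | succ n ih =>
    intro G hG
    obtain ⟨S, hS, rfl, _⟩ := exists_embedding G
    haveI := ih S.X₃ (cac_quotient hS @hG)
    refine subsingleton_of_forall_eq 0 fun x => ?_
    obtain ⟨x₃, rfl⟩ := Ext.covariant_sequence_exact₁ _ hS x (Ext.eq_zero_of_injective _) (n₀ := n + 1) rfl
    rw [Subsingleton.elim x₃ 0, Ext.zero_comp]

theorem shortExact_coprod (S : ι → ShortComplex (ProEtS.AbP X)) (hS : ∀ i, (S i).ShortExact) :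
    ∃ w : Limits.Sigma.map (fun i => (S i).f) ≫ Limits.Sigma.map (fun i => (S i).g) = 0,
      (ShortComplex.mk _ _ w).ShortExact := by
  have w : Limits.Sigma.map (fun i => (S i).f) ≫ Limits.Sigma.map (fun i => (S i).g) = 0 :=
    Sigma.hom_ext _ _ fun i => by rw [Sigma.ι_map_assoc, Sigma.ι_map, ← Category.assoc, (S i).zero, zero_comp, comp_zero]
  refine ⟨w, ?_⟩
  have hpr : ∀ (T : ι → ProEtS.AbP X) (T' : ι → ProEtS.AbP X) (f : ∀ i, T i ⟶ T' i) (k : ι),
      Limits.Sigma.map f ≫ pr T' k = pr T k ≫ f k := fun T T' f k => Sigma.hom_ext _ _ fun i => by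
    rw [Sigma.ι_map_assoc]
    by_cases h : i = k
    · subst h
      rw [ι_pr_self, ← Category.assoc, ι_pr_self, Category.comp_id, Category.id_comp]
    · rw [ι_pr_ne _ h, ← Category.assoc, ι_pr_ne _ h, zero_comp, comp_zero]
  haveI : Mono (Limits.Sigma.map fun i => (S i).f) := by
    haveI : Mono ((sheafToPresheaf _ _).map (Limits.Sigma.map fun i => (S i).f)) := by
      haveI : ∀ T, Mono (((sheafToPresheaf _ _).map (Limits.Sigma.map fun i => (S i).f)).app T) := fun T => by
        rw [AddCommGrpCat.mono_iff_injective, injective_iff_map_eq_zero]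
        intro x hx
        refine eq_zero_of_pr (fun i => (S i).X₁) x fun k => (ses_app (hS k) T).1 ?_
        have h := congr($(hpr _ _ (fun i => (S i).f) k).hom.app T x)
        refine h.symm.trans ((congrArg ((pr (fun i => (S i).X₂) k).hom.app T) hx).trans ?_)
        rw [map_zero, map_zero]
      exact NatTrans.mono_of_mono_app _
    exact (sheafToPresheaf _ _).mono_of_mono_map this
  haveI : ∀ i, Epi (S i).g := fun i => (hS i).epi_g
  haveI : Epi (Limits.Sigma.map fun i => (S i).g) := ⟨fun {Z} a b h => Sigma.hom_ext _ _ fun i => by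
    rw [← cancel_epi (S i).g, ← Sigma.ι_map_assoc (fun i => (S i).g), h, Sigma.ι_map_assoc]⟩
  refine { exact := ?_, mono_f := ‹_›, epi_g := ‹_› }
  refine ShortComplex.exact_of_g_is_cokernel _ ?_
  refine CokernelCofork.IsColimit.ofπ' _ w fun {A} k hk => ?_
  have hk' : ∀ i, (S i).f ≫ Sigma.ι (fun i => (S i).X₂) i ≫ k = 0 := fun i => by
    rw [← Sigma.ι_map_assoc (fun i => (S i).f), hk, comp_zero]
  haveI := fun i => (hS i).exact
  refine ⟨Sigma.desc fun i => (hS i).exact.desc (Sigma.ι (fun i => (S i).X₂) i ≫ k) (hk' i),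
    Sigma.hom_ext _ _ fun i => ?_⟩
  rw [Sigma.ι_map_assoc, Sigma.ι_desc, ShortComplex.Exact.g_desc]

/-- Classes in the cohomology of a coproduct are finite sums. -/
theorem exists_sum : ∀ (n : ℕ) (G : ι → ProEtS.AbP X) (x : Sheaf.H (∐ G) n),
    ∃ (s : Finset ι) (z : ∀ i, Sheaf.H (G i) n), x = ∑ i ∈ s, Sheaf.H.map (Sigma.ι G i) n (z i) := by
  intro n
  induction n with
  | zero =>
    intro G x
    let hT : IsTerminal (ProEtS.topP X) := MorphismProperty.Over.mkIdTerminal _ X
    haveI : CompactSpace (ProEtS.topP X).left := ‹CompactSpace X›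
    obtain ⟨s, hs⟩ := exists_part G (Sheaf.H.equiv₀ (∐ G) hT x)
    refine ⟨s, fun i => (Sheaf.H.equiv₀ (G i) hT).symm ((pr G i).hom.app _ (Sheaf.H.equiv₀ (∐ G) hT x)), ?_⟩
    apply (Sheaf.H.equiv₀ (∐ G) hT).injective
    rw [map_sum]
    refine (hs s subset_rfl).symm.trans (Finset.sum_congr rfl fun i _ => ?_)
    rw [← Sheaf.H.equiv₀_naturality, AddEquiv.apply_symm_apply]
  | succ n ih =>
    intro G x
    choose S hS h1 hJ using fun i => exists_embedding (G i)
    obtain rfl : (fun i => (S i).X₁) = G := funext h1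
    obtain ⟨w, hT⟩ := shortExact_coprod S hS
    let T := ShortComplex.mk _ _ w
    haveI := hJ
    haveI : Subsingleton (Sheaf.H T.X₂ (n + 1)) :=
      subsingleton_H n _ (cac_coprod (fun i => (S i).X₂) fun i => @cac_injective _ (S i).X₂ (hJ i))
    obtain ⟨y, rfl⟩ := Ext.covariant_sequence_exact₁ _ hT x (Subsingleton.elim _ _) (n₀ := n) rfl
    obtain ⟨s, z, rfl⟩ := ih (fun i => (S i).X₃) y
    refine ⟨s, fun i => (z i).comp (hS i).extClass rfl, ?_⟩
    refine (map_sum (Ext.postcomp hT.extClass _ (rfl : n + 1 = n + 1)) _ _).trans ?_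
    refine Finset.sum_congr rfl fun i _ => ?_
    let φ : S i ⟶ T :=
      { τ₁ := Sigma.ι (fun i => (S i).X₁) i
        τ₂ := Sigma.ι (fun i => (S i).X₂) i
        τ₃ := Sigma.ι (fun i => (S i).X₃) i
        comm₁₂ := (Sigma.ι_map (fun i => (S i).f) i)
        comm₂₃ := (Sigma.ι_map (fun i => (S i).g) i) }
    have h := ShortComplex.ShortExact.extClass_naturality (hS i) hT φ
    show (Sheaf.H.map _ n (z i)).comp hT.extClass rfl = _
    rw [Sheaf.H.map_apply, Sheaf.H.map_apply, Ext.comp_assoc (a₁₂ := n) (a₂₃ := 1) _ _ _ (add_zero n) (zero_add 1) rfl,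
      ← h, ← Ext.comp_assoc (a₁₂ := n + 1) (a₂₃ := 1) _ _ _ rfl (add_zero 1) rfl]

end Groth.Agent.ProEtCoprod19
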