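import Groth.Agent.Lib.ProEtEps19.Acyclic

/-! Sections of coproducts of abelian pro-étale sheaves. -/

universe u

open CategoryTheory Limits AlgebraicGeometry Opposite

namespace Groth.Agent.ProEtCoprod19

open ProEtWC ProEtEps19

set_option backward.isDefEq.respectTransparency false
set_option backward.isDefEq.respectTransparency.types false
set_option linter.style.haveILetI false
set_option linter.unusedSectionVars false
set_option maxHeartbeats 800000

attribute [local instance] ProEtWC.epsCont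

variable {X : Scheme.{u}} {ι : Type u} (G : ι → ProEtS.AbP X)

open Classical in
/-- Projection to a summand. -/
noncomputable def pr (i : ι) : (∐ G) ⟶ G i :=
  Sigma.desc fun k => if h : k = i then eqToHom (congrArg G h) else 0

theorem ι_pr_self (i : ι) : Sigma.ι G i ≫ pr G i = 𝟙 _ := by
  rw [pr, Sigma.ι_desc, dif_pos rfl, eqToHom_refl]

theorem ι_pr_ne {i k : ι} (h : k ≠ i) : Sigma.ι G k ≫ pr G i = 0 := by
  rw [pr, Sigma.ι_desc, dif_neg h]

/-- The sum of the components in `t`. -/
noncomputable def part (t : Finset ι) {T : X.ProEt} (x : (∐ G).obj.obj (op T)) : (∐ G).obj.obj (op T) :=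
  ∑ i ∈ t, (Sigma.ι G i).hom.app (op T) ((pr G i).hom.app (op T) x)

/-- Sections which are finite sums of sections of the summands. -/
def finSections (T : X.ProEt) : AddSubgroup ((∐ G).obj.obj (op T)) where
  carrier := {x | ∃ s : Finset ι, ∀ t, s ⊆ t → part G t x = x}
  zero_mem' := ⟨∅, fun t _ => by simp [part]⟩
  add_mem' := by
    classical
    rintro x y ⟨s, hs⟩ ⟨s', hs'⟩
    refine ⟨s ∪ s', fun t ht => ?_⟩
    simp only [part, map_add, Finset.sum_add_distrib]
    exact congrArg₂ (· + ·) (hs t (Finset.union_subset_left ht)) (hs' t (Finset.union_subset_right ht))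
  neg_mem' := by
    rintro x ⟨s, hs⟩
    refine ⟨s, fun t ht => ?_⟩
    simp only [part, map_neg, Finset.sum_neg_distrib]
    exact congrArg (- ·) (hs t ht)

theorem pr_ι_app (i k : ι) (T : X.ProEt) (y : (G i).obj.obj (op T)) :
    (pr G k).hom.app (op T) ((Sigma.ι G i).hom.app (op T) y) = (Sigma.ι G i ≫ pr G k).hom.app (op T) y := rfl

theorem ι_mem (i : ι) (T : X.ProEt) (y : (G i).obj.obj (op T)) :
    (Sigma.ι G i).hom.app (op T) y ∈ finSections G T := by
  classical
  refine ⟨{i}, fun t ht => ?_⟩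
  rw [part, Finset.sum_eq_single i]
  · rw [pr_ι_app, ι_pr_self]
    rfl
  · intro k _ hk
    rw [pr_ι_app, ι_pr_ne G (Ne.symm hk)]
    exact map_zero _
  · intro h
    exact absurd (ht (Finset.mem_singleton_self i)) h

/-- Every section is locally a finite sum. -/
theorem finSections_local (T : X.ProEt) (x : (∐ G).obj.obj (op T)) :
    ∃ R ∈ Scheme.ProEt.topology X T, ∀ (Y : X.ProEt) (q : Y ⟶ T), R.arrows q →
      (∐ G).obj.map q.op x ∈ finSections G Y := by
  let J := Scheme.ProEt.topology X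
  let F : ι → X.ProEtᵒᵖ ⥤ AddCommGrpCat.{u + 1} := fun i => (G i).obj
  let q : (∐ F) ⟶ (∐ G).obj := Sigma.desc fun i => (Sigma.ι G i).hom
  let r : (∐ G) ⟶ (presheafToSheaf J AddCommGrpCat.{u + 1}).obj (∐ F) :=
    Sigma.desc fun i => ObjectProperty.homMk (Sigma.ι F i ≫ toSheafify J _)
  let w : (presheafToSheaf J AddCommGrpCat.{u + 1}).obj (∐ F) ⟶ (∐ G) :=
    ObjectProperty.homMk (sheafifyLift J q (∐ G).property)
  have hq : toSheafify J _ ≫ w.hom = q := toSheafify_sheafifyLift J q _
  have hrw : r ≫ w = 𝟙 _ := Sigma.hom_ext _ _ fun i => by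
    apply (sheafToPresheaf J _).map_injective
    show (Sigma.ι G i ≫ r ≫ w).hom = (Sigma.ι G i ≫ 𝟙 _).hom
    rw [Category.comp_id, ← Category.assoc, Sigma.ι_desc]
    show (Sigma.ι F i ≫ toSheafify J _) ≫ w.hom = _
    rw [Category.assoc, hq, Sigma.ι_desc]
  haveI : IsSplitEpi w := IsSplitEpi.mk' ⟨r, hrw⟩
  haveI : Sheaf.IsLocallySurjective w := (Sheaf.isLocallySurjective_iff_epi' _ w).2 inferInstance
  haveI : Presheaf.IsLocallySurjective J q := by
    rw [← hq]
    haveI : Presheaf.IsLocallySurjective J w.hom := ‹Sheaf.IsLocallySurjective w›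
    infer_instance
  refine ⟨_, Presheaf.imageSieve_mem J q x, fun Y f hf => ?_⟩
  obtain ⟨y, hy⟩ := hf
  rw [← hy]
  let H := finSections G Y
  let π : (∐ G).obj.obj (op Y) ⟶ AddCommGrpCat.of ((∐ G).obj.obj (op Y) ⧸ H) :=
    AddCommGrpCat.ofHom (QuotientAddGroup.mk' H)
  have h : q.app (op Y) ≫ π = 0 := by
    refine (isColimitOfPreserves ((evaluation _ _).obj (op Y)) (coproductIsCoproduct F)).hom_ext fun i => ?_
    obtain ⟨i⟩ := i
    rw [comp_zero]
    show (Sigma.ι F i).app (op Y) ≫ q.app (op Y) ≫ π = 0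
    rw [← Category.assoc, ← NatTrans.comp_app, Sigma.ι_desc]
    ext z
    exact (QuotientAddGroup.eq_zero_iff _).2 (ι_mem G i Y z)
  exact (QuotientAddGroup.eq_zero_iff _).1 congr($h y)

theorem part_map {T Y : X.ProEt} (q : Y ⟶ T) (t : Finset ι) (x : (∐ G).obj.obj (op T)) :
    part G t ((∐ G).obj.map q.op x) = (∐ G).obj.map q.op (part G t x) := by
  simp only [part, map_sum]
  refine Finset.sum_congr rfl fun i _ => ?_
  rw [NatTrans.naturality_apply (pr G i).hom, NatTrans.naturality_apply (Sigma.ι G i).hom]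

/-- A section with trivial components is trivial. -/
theorem eq_zero_of_pr {T : X.ProEt} (x : (∐ G).obj.obj (op T)) (h : ∀ i, (pr G i).hom.app (op T) x = 0) :
    x = 0 := by
  obtain ⟨R, hR, hx⟩ := finSections_local G T x
  refine eq_of_cover hR (∐ G) _ _ fun Y q hq => ?_
  obtain ⟨s, hs⟩ := hx Y q hq
  rw [← hs s subset_rfl, part_map, map_zero]
  simp [part, h]

/-- Over quasi-compact objects every section is a finite sum. -/
theorem exists_part {T : X.ProEt} [CompactSpace T.left] (x : (∐ G).obj.obj (op T)) :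
    ∃ s : Finset ι, ∀ t, s ⊆ t → part G t x = x := by
  classical
  obtain ⟨R, hR, hx⟩ := finSections_local G T x
  obtain ⟨V, v, hv, hVa, hwc⟩ := exists_affine_wc_cover_singleton T
  haveI := hVa
  obtain ⟨n, O, hO, hd, hu, hb⟩ := (isWC_iff_refinedByClopen V).1 hwc _
    ((Scheme.ProEt.topology X).pullback_stable v hR)
  choose s hs using fun k => hx _ _ (hb k)
  refine ⟨Finset.univ.biUnion s, fun t ht => ?_⟩
  refine eq_of_cover hv (∐ G) _ _ fun Y q hq => ?_
  obtain ⟨Y', a, g, hg, rfl⟩ := hq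
  obtain ⟨⟩ := hg
  rw [op_comp, Functor.map_comp_apply, Functor.map_comp_apply]
  refine congrArg ((∐ G).obj.map a.op) ?_
  haveI : ∀ k : ULift.{u} (Fin n), IsOpenImmersion (overHom V (O k.down).ι).left :=
    fun k => inferInstanceAs (IsOpenImmersion (O k.down).ι)
  refine eq_of_cover (openImmersions_cover_mem (fun k : ULift.{u} (Fin n) => overObj V (O k.down).ι)
    (fun k => overHom V (O k.down).ι) fun z => ?_) (∐ G) _ _ fun Y'' q'' hq'' => ?_
  · obtain ⟨k, hk⟩ := Set.mem_iUnion.1 (hu.ge (Set.mem_univ z))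
    exact ⟨⟨k⟩, ⟨⟨z, hk⟩, rfl⟩⟩
  obtain ⟨Y₃, a₃, g₃, hg₃, rfl⟩ := hq''
  obtain ⟨⟨k⟩⟩ := hg₃
  simp only [op_comp, Functor.map_comp_apply]
  refine congrArg ((∐ G).obj.map a₃.op) ?_
  have h := hs k t (Finset.Subset.trans (Finset.subset_biUnion_of_mem s (Finset.mem_univ k)) ht)
  rw [part_map, op_comp, Functor.map_comp_apply, Functor.map_comp_apply] at h
  exact h

end Groth.Agent.ProEtCoprod19
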